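import Mathlib

/-!
# Finite type points are dense (helper73)

An open subset of a scheme containing all finite type points is everything.
-/

set_option autoImplicit false

universe u

open AlgebraicGeometry CategoryTheory CategoryTheory.Limits

namespace Groth.Agent.Lib.Helper73

/-- A closed point of an open subscheme is a finite type point of the scheme. -/
lemma locallyOfFiniteType_fromSpecResidueField_of_isClosed_in_open {X : Scheme.{u}} (V : X.Opens)
    (x : (V : Scheme.{u})) (hx : IsClosed ({x} : Set (V : Scheme.{u}))) :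
    LocallyOfFiniteType (X.fromSpecResidueField (V.ι x)) := by
  haveI : IsClosedImmersion ((V : Scheme.{u}).fromSpecResidueField x) :=
    isClosed_singleton_iff_isClosedImmersion.mp hx
  have h1 := Scheme.Hom.SpecMap_residueFieldMap_fromSpecResidueField (f := V.ι) x
  have h2 : LocallyOfFiniteType
      (Spec.map (V.ι.residueFieldMap x) ≫ X.fromSpecResidueField (V.ι x)) := by
    rw [h1]; infer_instance
  have h3 : X.fromSpecResidueField (V.ι x) = inv (Spec.map (V.ι.residueFieldMap x)) ≫
      (Spec.map (V.ι.residueFieldMap x) ≫ X.fromSpecResidueField (V.ι x)) := by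
    rw [IsIso.inv_hom_id_assoc]
  rw [h3]
  infer_instance

theorem opens_eq_top_of_finiteType_points_mem {X : Scheme.{u}} (W : X.Opens)
    (hW : ∀ x : X, LocallyOfFiniteType (X.fromSpecResidueField x) → x ∈ W) : W = ⊤ := by
  by_contra hne
  obtain ⟨z, hz⟩ : ∃ z : X, z ∉ W := by
    by_contra hall
    push Not at hall
    exact hne (top_le_iff.mp fun x _ => hall x)
  obtain ⟨V, hV, hzV, -⟩ :=
    exists_isAffineOpen_mem_and_subset (X := X) (x := z) (U := ⊤) trivial
  haveI : IsAffine (V : Scheme.{u}) := hV
  let Z : Set (V : Scheme.{u}) := V.ι ⁻¹' ((W : Set X)ᶜ)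
  have hZcl : IsClosed Z := (W.isOpen.isClosed_compl).preimage V.ι.continuous
  have hZne : Z.Nonempty := ⟨⟨z, hzV⟩, hz⟩
  obtain ⟨x, hxZ, hxcl⟩ := hZcl.exists_closed_singleton hZne
  exact hxZ (hW _ (locallyOfFiniteType_fromSpecResidueField_of_isClosed_in_open V x hxcl))

end Groth.Agent.Lib.Helper73
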