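import Groth.Prelude.Def_Grpd
import Groth.Prelude.Def_AlgSp
import Mathlib.AlgebraicGeometry.Morphisms.QuasiFinite

/-!
# The groupoid scheme of an equivalence relation (helper73)

For `s t : R ⟶ U` in `Over S` with `AlgSp.IsEqvRel s t`, the groupoid scheme
`(U, R, s, t, c, e, i)`.
-/

set_option autoImplicit false

universe u

open AlgebraicGeometry CategoryTheory CategoryTheory.Limits

namespace Groth.Agent.Lib.Helper73.EqvGrpd

variable {S : Scheme.{u}} {R U : Over S} {s t : R ⟶ U}

/-- Injectivity of `(t, s)` on scheme-valued points. -/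
lemma inj_left (h : AlgSp.IsEqvRel s t) {T : Scheme.{u}} (α β : T ⟶ R.left)
    (ht : α ≫ t.left = β ≫ t.left) (hs : α ≫ s.left = β ≫ s.left) : α = β := by
  have hw : β ≫ R.hom = α ≫ R.hom := by
    rw [← Over.w t, ← Category.assoc, ← Category.assoc, ht]
  let a : Over.mk (α ≫ R.hom) ⟶ R := Over.homMk α rfl
  let b : Over.mk (α ≫ R.hom) ⟶ R := Over.homMk β hw
  have := h.injective _ a b (by ext1; exact ht) (by ext1; exact hs)
  exact congrArg (fun k => k.left) this

/-- Existence of a relating point for scheme-valued points over `S`. -/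
lemma exists_left (h : AlgSp.IsEqvRel s t) {T : Scheme.{u}} (pT : T ⟶ S) (a b : T ⟶ U.left)
    (ha : a ≫ U.hom = pT) (hb : b ≫ U.hom = pT)
    (hab : ∃ r : Over.mk pT ⟶ R, r ≫ t = Over.homMk a ha ∧ r ≫ s = Over.homMk b hb) :
    ∃ ρ : T ⟶ R.left, ρ ≫ t.left = a ∧ ρ ≫ s.left = b := by
  obtain ⟨r, h1, h2⟩ := hab
  exact ⟨r.left, congrArg (fun k => k.left) h1, congrArg (fun k => k.left) h2⟩

section Data

variable (h : AlgSp.IsEqvRel s t)

include h in
lemma exists_e : ∃ ε : U.left ⟶ R.left, ε ≫ t.left = 𝟙 _ ∧ ε ≫ s.left = 𝟙 _ := by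
  obtain ⟨r, h1, h2⟩ := (h.equivalence U).refl (𝟙 U)
  exact ⟨r.left, congrArg (fun k => k.left) h1, congrArg (fun k => k.left) h2⟩

include h in
lemma exists_i : ∃ ι : R.left ⟶ R.left, ι ≫ t.left = s.left ∧ ι ≫ s.left = t.left := by
  have h0 : ∃ r : R ⟶ R, r ≫ t = t ∧ r ≫ s = s := ⟨𝟙 R, Category.id_comp _, Category.id_comp _⟩
  obtain ⟨r, h1, h2⟩ := (h.equivalence R).symm h0
  exact ⟨r.left, congrArg (fun k => k.left) h1, congrArg (fun k => k.left) h2⟩

include h in
lemma exists_c : ∃ γ : pullback s.left t.left ⟶ R.left,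
    γ ≫ t.left = pullback.fst s.left t.left ≫ t.left ∧
    γ ≫ s.left = pullback.snd s.left t.left ≫ s.left := by
  let T : Over S := Over.mk (pullback.fst s.left t.left ≫ R.hom)
  let p₁ : T ⟶ R := Over.homMk (pullback.fst s.left t.left) rfl
  let p₂ : T ⟶ R := Over.homMk (pullback.snd s.left t.left) (by
    change pullback.snd s.left t.left ≫ R.hom = pullback.fst s.left t.left ≫ R.hom
    calc pullback.snd s.left t.left ≫ R.hom
        = pullback.snd s.left t.left ≫ t.left ≫ U.hom := by rw [Over.w t]
      _ = pullback.fst s.left t.left ≫ s.left ≫ U.hom := by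
          rw [← Category.assoc, ← pullback.condition, Category.assoc]
      _ = pullback.fst s.left t.left ≫ R.hom := by rw [Over.w s])
  have h12 : p₁ ≫ s = p₂ ≫ t := by
    ext1
    exact pullback.condition
  have ha : ∃ r : T ⟶ R, r ≫ t = p₁ ≫ t ∧ r ≫ s = p₁ ≫ s := ⟨p₁, rfl, rfl⟩
  have hb : ∃ r : T ⟶ R, r ≫ t = p₁ ≫ s ∧ r ≫ s = p₂ ≫ s := ⟨p₂, h12.symm, rfl⟩
  obtain ⟨r, h1, h2⟩ := (h.equivalence T).trans ha hb
  exact ⟨r.left, congrArg (fun k => k.left) h1, congrArg (fun k => k.left) h2⟩

/-- identity -/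
noncomputable def e : U.left ⟶ R.left := (exists_e h).choose
lemma e_t : e h ≫ t.left = 𝟙 _ := (exists_e h).choose_spec.1
lemma e_s : e h ≫ s.left = 𝟙 _ := (exists_e h).choose_spec.2

/-- inverse -/
noncomputable def i : R.left ⟶ R.left := (exists_i h).choose
lemma i_t : i h ≫ t.left = s.left := (exists_i h).choose_spec.1
lemma i_s : i h ≫ s.left = t.left := (exists_i h).choose_spec.2

/-- composition -/
noncomputable def c : pullback s.left t.left ⟶ R.left := (exists_c h).choose
lemma c_t : c h ≫ t.left = pullback.fst s.left t.left ≫ t.left := (exists_c h).choose_spec.1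
lemma c_s : c h ≫ s.left = pullback.snd s.left t.left ≫ s.left := (exists_c h).choose_spec.2

lemma lift_c_t {T : Scheme.{u}} (α β : T ⟶ R.left) (hαβ : α ≫ s.left = β ≫ t.left) :
    (pullback.lift α β hαβ ≫ c h) ≫ t.left = α ≫ t.left := by
  rw [Category.assoc, c_t, pullback.lift_fst_assoc]

lemma lift_c_s {T : Scheme.{u}} (α β : T ⟶ R.left) (hαβ : α ≫ s.left = β ≫ t.left) :
    (pullback.lift α β hαβ ≫ c h) ≫ s.left = β ≫ s.left := by
  rw [Category.assoc, c_s, pullback.lift_snd_assoc]

/-- The groupoid scheme of an equivalence relation. -/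
noncomputable def grpd : Grpd.GroupoidScheme S where
  U := U.left
  R := R.left
  pU := U.hom
  pR := R.hom
  s := s.left
  t := t.left
  e := e h
  i := i h
  c := c h
  s_over := Over.w s
  t_over := Over.w t
  comp_s := fun α β hαβ => lift_c_s h α β hαβ
  comp_t := fun α β hαβ => lift_c_t h α β hαβ
  assoc := by
    intro T α β γ h₁ h₂
    apply inj_left h
    · rw [lift_c_t, lift_c_t, lift_c_t]
    · rw [lift_c_s, lift_c_s, lift_c_s]
  e_s := e_s h
  e_t := e_t h
  comp_e := by
    intro T α
    apply inj_left h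
    · rw [lift_c_t]
    · rw [lift_c_s, Category.assoc, Category.assoc, e_s, Category.comp_id]
  e_comp := by
    intro T α
    apply inj_left h
    · rw [lift_c_t, Category.assoc, Category.assoc, e_t, Category.comp_id]
    · rw [lift_c_s]
  i_s := i_s h
  i_t := i_t h
  comp_i := by
    intro T α
    apply inj_left h
    · rw [lift_c_t, Category.assoc, Category.assoc, e_t, Category.comp_id]
    · rw [lift_c_s, Category.assoc, i_s, Category.assoc, Category.assoc, e_s, Category.comp_id]
  i_comp := by
    intro T α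
    apply inj_left h
    · rw [lift_c_t, Category.assoc, i_t, Category.assoc, Category.assoc, e_t, Category.comp_id]
    · rw [lift_c_s, Category.assoc, Category.assoc, e_s, Category.comp_id]

@[simp] lemma grpd_U : (grpd h).U = U.left := rfl
@[simp] lemma grpd_R : (grpd h).R = R.left := rfl
@[simp] lemma grpd_s : (grpd h).s = s.left := rfl
@[simp] lemma grpd_t : (grpd h).t = t.left := rfl
@[simp] lemma grpd_pU : (grpd h).pU = U.hom := rfl
@[simp] lemma grpd_pR : (grpd h).pR = R.hom := rfl

/-- `j = (t, s)` is a monomorphism. -/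
instance mono_j : Mono (grpd h).j := by
  constructor
  intro T α β hαβ
  apply inj_left h
  · have := congrArg (· ≫ pullback.fst _ _) hαβ
    simp only [Category.assoc, Grpd.GroupoidScheme.j, pullback.lift_fst] at this
    exact this
  · have := congrArg (· ≫ pullback.snd _ _) hαβ
    simp only [Category.assoc, Grpd.GroupoidScheme.j, pullback.lift_snd] at this
    exact this

instance mono_stabilizerToU : Mono (grpd h).stabilizerToU := by
  change Mono (pullback.snd (grpd h).j (grpd h).diag)
  infer_instance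

instance lft_stabilizerToU [LocallyOfFiniteType t.left] :
    LocallyOfFiniteType (grpd h).stabilizerToU := by
  have h1 : LocallyOfFiniteType ((grpd h).j ≫ pullback.fst (grpd h).pU (grpd h).pU) := by
    unfold Grpd.GroupoidScheme.j
    rw [pullback.lift_fst]
    change LocallyOfFiniteType t.left
    infer_instance
  haveI : LocallyOfFiniteType (grpd h).j := locallyOfFiniteType_of_comp _ (pullback.fst _ _)
  change LocallyOfFiniteType (pullback.snd (grpd h).j (grpd h).diag)
  infer_instance

instance lqf_stabilizerToU [LocallyOfFiniteType t.left] :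
    LocallyQuasiFinite (grpd h).stabilizerToU := inferInstance

end Data

end Groth.Agent.Lib.Helper73.EqvGrpd
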