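import Groth.Agent.Lib.Helper73.EqvSlice.SliceCover
import Groth.Agent.Lib.Helper73.EqvSlice.GrpdOfEqvRel
import Groth.Agent.Lib.Helper5.QuotOpen
import Groth.Agent.Lib.Helper5.QuotOpenPre

/-!
# Slicing an fppf equivalence relation to a quasi-finite one (helper73)

`exists_slice_eqvRel`: for an equivalence relation `s, t : R ⇉ U` of schemes over `S` with `s`, `t`
flat and locally of finite presentation, there is `g : U' ⟶ U` such that the restriction
`R'` of `R` to `U'` has `s'`, `t'` flat, lfp and locally quasi-finite and `U'/R' ≅ U/R`.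
-/

set_option autoImplicit false
open CategoryTheory AlgebraicGeometry TopologicalSpace Topology Limits
universe u

namespace Groth.Agent.Lib.Helper73

open Groth.Agent.Lib.Helper73.GrpdRes Groth.Agent.Lib.Helper5 Groth.Agent.Lib.Helper5.SheafQuot
  AlgSp

section General

variable {S : Scheme.{u}}

lemma repMap_comp (K : Precoverage Scheme.{u}) {V W X : Over S} (a : V ⟶ W) (b : W ⟶ X) :
    QuotSh.repMap K (a ≫ b) = QuotSh.repMap K a ≫ QuotSh.repMap K b := by
  change (presheafToSheaf (QuotSh.J K S) (Type (u + 1))).map _ =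
    (presheafToSheaf (QuotSh.J K S) (Type (u + 1))).map _ ≫
      (presheafToSheaf (QuotSh.J K S) (Type (u + 1))).map _
  rw [← Functor.map_comp, ← Functor.whiskerRight_comp, ← yoneda.map_comp]

end General

section Restrict

variable {S : Scheme.{u}} (G : Grpd.GroupoidScheme S) {U₀ : Scheme.{u}} (g : U₀ ⟶ G.U)

/-- The objects of the restricted groupoid, over `S`. -/
noncomputable abbrev resU : Over S := Over.mk (restrictAlong G g).pU

/-- The arrows of the restricted groupoid, over `S`. -/
noncomputable abbrev resR : Over S := Over.mk (restrictAlong G g).pR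

/-- source -/
noncomputable abbrev resS : resR G g ⟶ resU G g :=
  Over.homMk (restrictAlong G g).s (restrictAlong G g).s_over

/-- target -/
noncomputable abbrev resT : resR G g ⟶ resU G g :=
  Over.homMk (restrictAlong G g).t (restrictAlong G g).t_over

end Restrict

set_option backward.isDefEq.respectTransparency.types false in
theorem exists_slice_eqvRel (S : Scheme.{u}) {R U : Over S} (s t : R ⟶ U)
    (h : AlgSp.IsEqvRel s t) [Flat s.left] [LocallyOfFinitePresentation s.left]
    [Flat t.left] [LocallyOfFinitePresentation t.left] :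
    ∃ (R' U' : Over S) (s' t' : R' ⟶ U') (g : U' ⟶ U) (r : R' ⟶ R)
      (ψ : QuotSh.quot Scheme.fppfPrecoverage s' t' ⟶ QuotSh.quot Scheme.fppfPrecoverage s t),
      AlgSp.IsEqvRel s' t' ∧ r ≫ s = s' ≫ g ∧ r ≫ t = t' ≫ g ∧
      Flat s'.left ∧ LocallyOfFinitePresentation s'.left ∧ LocallyQuasiFinite s'.left ∧
      Flat t'.left ∧ LocallyOfFinitePresentation t'.left ∧ LocallyQuasiFinite t'.left ∧
      QuotSh.quotπ Scheme.fppfPrecoverage s' t' ≫ ψ =
        QuotSh.repMap Scheme.fppfPrecoverage g ≫ QuotSh.quotπ Scheme.fppfPrecoverage s t ∧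
      IsIso ψ := by
  set G := EqvGrpd.grpd h with hG
  haveI : Flat G.s := inferInstanceAs (Flat s.left)
  haveI : Flat G.t := inferInstanceAs (Flat t.left)
  haveI : LocallyOfFinitePresentation G.s := inferInstanceAs (LocallyOfFinitePresentation s.left)
  haveI : LocallyOfFinitePresentation G.t := inferInstanceAs (LocallyOfFinitePresentation t.left)
  haveI : LocallyOfFiniteType G.stabilizerToU := EqvGrpd.lft_stabilizerToU h
  haveI : LocallyQuasiFinite G.stabilizerToU := EqvGrpd.lqf_stabilizerToU h
  -- the slices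
  let I : Type u := {u : G.U // LocallyOfFiniteType (G.U.fromSpecResidueField u) ∧
    MoreMor.IsCMAt G.s (G.e u)}
  have hex : ∀ i : I, ∃ (U' : Scheme.{u}) (g : U' ⟶ G.U) (u' : U'),
      LocallyOfFinitePresentation g ∧ g u' = i.1 ∧ Flat (hh G g) ∧ LocallyQuasiFinite (hh G g) :=
    fun i => exists_slice_flat_lqf G i.1 i.2.1 i.2.2
  choose U'f gf uf hgf1 hgf2 hgf3 hgf4 using hex
  haveI : ∀ i, LocallyOfFinitePresentation (gf i) := hgf1
  set g₀ : ∐ U'f ⟶ G.U := Sigma.desc gf with hg₀
  haveI hlfpg : LocallyOfFinitePresentation g₀ := lfp_sigma_desc G U'f gf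
  haveI hflat : Flat (hh G g₀) :=
    hh_sigma_of_forall G U'f gf @Flat (fun f _ => inferInstance) hgf3
  haveI hlqf : LocallyQuasiFinite (hh G g₀) :=
    hh_sigma_of_forall G U'f gf @LocallyQuasiFinite (fun f _ => inferInstance) hgf4
  have hsurj : Function.Surjective (hh G g₀) := by
    apply surjective_hh_of_cover G g₀
    intro u hu hCM
    refine ⟨Sigma.ι U'f ⟨u, hu, hCM⟩ (uf ⟨u, hu, hCM⟩), ?_⟩
    rw [← Scheme.Hom.comp_apply, hg₀, Sigma.ι_desc]
    exact hgf2 _
  haveI : Surjective (hh G g₀) := ⟨hsurj⟩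
  -- the restriction
  set G' := restrictAlong G g₀ with hG'
  let U' : Over S := resU G g₀
  let R' : Over S := resR G g₀
  let s' : R' ⟶ U' := resS G g₀
  let t' : R' ⟶ U' := resT G g₀
  let gO : U' ⟶ U := Over.homMk g₀ rfl
  have hqR_over : qR G g₀ ≫ R.hom = G'.pR := by
    have h1 : qR G g₀ ≫ R.hom = (qR G g₀ ≫ G.s) ≫ G.pU := by
      rw [Category.assoc]
      exact congrArg (fun k => qR G g₀ ≫ k) (Over.w s).symm
    rw [h1, qR_s]
    rfl
  let rO : R' ⟶ R := Over.homMk (qR G g₀) hqR_over
  have hrs : rO ≫ s = s' ≫ gO := by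
    ext1
    exact qR_s G g₀
  have hrt : rO ≫ t = t' ≫ gO := by
    ext1
    exact qR_t G g₀
  -- equivalence relation
  have hEqv' : AlgSp.IsEqvRel s' t' := by
    refine ⟨fun T r₁ r₂ h1 h2 => ?_, fun T => QuotOpenPre.preEqv_of_groupoid G' T⟩
    ext1
    apply R_hom_ext
    · exact congrArg (fun k => k.left) h1
    · apply EqvGrpd.inj_left h
      · have e1 := congrArg (fun k => k.left) h1
        have e2 : ∀ w : T ⟶ R', (w.left ≫ qR G g₀) ≫ t.left = (w ≫ t').left ≫ g₀ := by
          intro w
          rw [Category.assoc]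
          exact (congrArg (fun k => w.left ≫ k) (qR_t G g₀)).trans (Category.assoc _ _ _).symm
        exact (e2 r₁).trans ((congrArg (fun k => k ≫ g₀) e1).trans (e2 r₂).symm)
      · have e1 := congrArg (fun k => k.left) h2
        have e2 : ∀ w : T ⟶ R', (w.left ≫ qR G g₀) ≫ s.left = (w ≫ s').left ≫ g₀ := by
          intro w
          rw [Category.assoc]
          exact (congrArg (fun k => w.left ≫ k) (qR_s G g₀)).trans (Category.assoc _ _ _).symm
        exact (e2 r₁).trans ((congrArg (fun k => k ≫ g₀) e1).trans (e2 r₂).symm)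
    · exact congrArg (fun k => k.left) h2
  -- properties of `s'`, `t'`
  have hs'flat : Flat s'.left := by
    change Flat (pullback.snd (hh G g₀) g₀); infer_instance
  have hs'lfp : LocallyOfFinitePresentation s'.left := by
    change LocallyOfFinitePresentation (pullback.snd (hh G g₀) g₀); infer_instance
  have hs'lqf : LocallyQuasiFinite s'.left := by
    change LocallyQuasiFinite (pullback.snd (hh G g₀) g₀); infer_instance
  haveI : IsIso G'.i := inferInstance
  have ht'eq : t'.left = G'.i ≫ s'.left := G'.i_s.symm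
  have ht'flat : Flat t'.left := by
    rw [ht'eq]; haveI := hs'flat; infer_instance
  have ht'lfp : LocallyOfFinitePresentation t'.left := by
    rw [ht'eq]; haveI := hs'lfp; infer_instance
  have ht'lqf : LocallyQuasiFinite t'.left := by
    rw [ht'eq]; haveI := hs'lqf; infer_instance
  -- the map of quotients
  have hcoeq : QuotSh.repMap Scheme.fppfPrecoverage s' ≫
      (QuotSh.repMap Scheme.fppfPrecoverage gO ≫ QuotSh.quotπ Scheme.fppfPrecoverage s t) =
      QuotSh.repMap Scheme.fppfPrecoverage t' ≫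
      (QuotSh.repMap Scheme.fppfPrecoverage gO ≫ QuotSh.quotπ Scheme.fppfPrecoverage s t) := by
    rw [← Category.assoc, ← Category.assoc, ← repMap_comp, ← repMap_comp, ← hrs, ← hrt,
      repMap_comp, repMap_comp, Category.assoc, Category.assoc, QuotSh.quot_condition]
  let ψ : QuotSh.quot Scheme.fppfPrecoverage s' t' ⟶ QuotSh.quot Scheme.fppfPrecoverage s t :=
    coequalizer.desc _ hcoeq
  have hψ : QuotSh.quotπ Scheme.fppfPrecoverage s' t' ≫ ψ =
      QuotSh.repMap Scheme.fppfPrecoverage gO ≫ QuotSh.quotπ Scheme.fppfPrecoverage s t :=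
    coequalizer.π_desc _ _
  have hψ' := QuotOpen.quotπ'_comp s t gO s' t' ψ hψ
  -- the restriction square
  have hsq : IsPullback (prod.lift t' s') rO (prod.map gO gO) (prod.lift t s) := by
    have w : prod.lift t' s' ≫ prod.map gO gO = rO ≫ prod.lift t s := by
      apply Limits.prod.hom_ext
      · rw [Category.assoc, Category.assoc, prod.map_fst, prod.lift_fst, prod.lift_fst_assoc, hrt]
      · rw [Category.assoc, Category.assoc, prod.map_snd, prod.lift_snd, prod.lift_snd_assoc, hrs]
    have key : ∀ k : PullbackCone (prod.map gO gO) (prod.lift t s),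
        ∃ l : k.pt ⟶ R', l ≫ t' = k.fst ≫ prod.fst ∧ l ≫ s' = k.fst ≫ prod.snd ∧
          l ≫ rO = k.snd := by
      intro k
      have c1 : (k.fst ≫ prod.fst) ≫ gO = k.snd ≫ t := by
        have := congrArg (· ≫ prod.fst) k.condition
        simpa only [Category.assoc, prod.map_fst, prod.lift_fst] using this
      have c2 : (k.fst ≫ prod.snd) ≫ gO = k.snd ≫ s := by
        have := congrArg (· ≫ prod.snd) k.condition
        simpa only [Category.assoc, prod.map_snd, prod.lift_snd] using this
      have h1 : (k.fst ≫ prod.fst).left ≫ gU G g₀ = k.snd.left ≫ G.t :=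
        congrArg (fun z => z.left) c1
      have h2 : k.snd.left ≫ G.s = (k.fst ≫ prod.snd).left ≫ gU G g₀ :=
        (congrArg (fun z => z.left) c2).symm
      let l₀ := mkR (G := G) (g := g₀) (k.fst ≫ prod.fst).left k.snd.left (k.fst ≫ prod.snd).left
        h1 h2
      have hl₀ : l₀ ≫ R'.hom = k.pt.hom := by
        have e1 : l₀ ≫ R'.hom = (l₀ ≫ G'.s) ≫ U'.hom := by
          rw [Category.assoc]
          rfl
        rw [e1, mkR_s]
        exact Over.w (k.fst ≫ prod.snd)
      refine ⟨Over.homMk l₀ hl₀, ?_, ?_, ?_⟩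
      · ext1
        exact mkR_t _ _ _ h1 h2
      · ext1
        exact mkR_s _ _ _ h1 h2
      · ext1
        exact mkR_qR _ _ _ h1 h2
    refine ⟨⟨w⟩, ⟨PullbackCone.IsLimit.mk _ (fun k => (key k).choose) (fun k => ?_) (fun k => ?_)
      (fun k m hm1 hm2 => ?_)⟩⟩
    · obtain ⟨e1, e2, -⟩ := (key k).choose_spec
      apply Limits.prod.hom_ext
      · rw [Category.assoc, prod.lift_fst, e1]
      · rw [Category.assoc, prod.lift_snd, e2]
    · exact (key k).choose_spec.2.2
    · obtain ⟨e1, e2, -⟩ := (key k).choose_spec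
      apply hEqv'.injective
      · rw [e1, ← hm1, Category.assoc, prod.lift_fst]
      · rw [e2, ← hm1, Category.assoc, prod.lift_snd]
  haveI hmono : Mono ψ := QuotOpen.mono_of_restriction hsq h ψ hψ'
  -- epi
  haveI hepi : Epi ψ := by
    let P : Over S := Over.mk (hh G g₀ ≫ U.hom)
    let hP : P ⟶ U := Over.homMk (hh G g₀) rfl
    have hρ_over : pullback.snd g₀ G.t ≫ R.hom = hh G g₀ ≫ U.hom :=
      (congrArg (fun k => pullback.snd g₀ G.t ≫ k) (Over.w s).symm).trans
        (Category.assoc _ _ _).symm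
    let ρP : P ⟶ R := Over.homMk (pullback.snd g₀ G.t) hρ_over
    have hf_over : pullback.fst g₀ G.t ≫ U'.hom = hh G g₀ ≫ U.hom := by
      refine Eq.trans ?_ hρ_over
      change pullback.fst g₀ G.t ≫ g₀ ≫ U.hom = _
      refine (Category.assoc _ _ _).symm.trans ?_
      refine (congrArg (fun k => k ≫ U.hom) pullback.condition).trans ?_
      refine (Category.assoc _ _ _).trans ?_
      exact congrArg (fun k => pullback.snd g₀ G.t ≫ k) (Over.w t)
    let fP : P ⟶ U' := Over.homMk (pullback.fst g₀ G.t) hf_over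
    have hρs : ρP ≫ s = hP := by
      ext1; rfl
    have hρt : ρP ≫ t = fP ≫ gO := by
      ext1
      exact pullback.condition.symm
    haveI : Flat hP.left := hflat
    haveI : Surjective hP.left := ⟨hsurj⟩
    haveI : LocallyOfFinitePresentation hP.left := by
      change LocallyOfFinitePresentation (hh G g₀); infer_instance
    haveI : Epi ((yon S).map hP) := QuotSchemes.epi_yon_map_of_fppf hP
    haveI : Epi ((yon S).map hP ≫ quotπ' s t) := epi_comp _ _
    have hcomp : (yon S).map hP ≫ quotπ' s t = ((yon S).map fP ≫ quotπ' s' t') ≫ ψ := by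
      rw [Category.assoc, hψ', ← Category.assoc, ← Functor.map_comp, ← hρt, ← hρs,
        Functor.map_comp, Functor.map_comp, Category.assoc, Category.assoc, quotπ'_condition]
    rw [hcomp] at this
    exact epi_of_epi ((yon S).map fP ≫ quotπ' s' t') ψ
  exact ⟨R', U', s', t', gO, rO, ψ, hEqv', hrs, hrt, hs'flat, hs'lfp, hs'lqf, ht'flat, ht'lfp,
    ht'lqf, hψ, isIso_of_mono_of_epi ψ⟩

end Groth.Agent.Lib.Helper73
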