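import Groth.Agent.Lib.Helper73.Grpd.MaxSliceFlat
import Groth.Agent.Lib.Helper73.EqvSlice.FiniteTypePoints

/-!
# Covering a flat groupoid by quasi-finite slices (helper73)

* `exists_slice_flat_lqf`: at a finite type point `u` with `s` Cohen–Macaulay at `e u` and
  quasi-finite stabilizer, there is a slice `g : U' ⟶ U` through `u` with `h` flat, lfp and
  locally quasi-finite.
* `hh_sigma_of_forall`: properties of `h` for a disjoint union of slices.
* `surjective_hh_of_cover`: `h` is surjective when the slices pass through all finite type points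
  where `s` is Cohen–Macaulay at the identity.
-/

set_option autoImplicit false
open CategoryTheory AlgebraicGeometry TopologicalSpace Topology Limits
universe u

namespace Groth.Agent.Lib.Helper73

open Groth.Agent.Lib.Helper73.GrpdRes

variable {S : Scheme.{u}} (G : Grpd.GroupoidScheme S)

theorem exists_slice_flat_lqf [LocallyOfFinitePresentation G.s] [LocallyOfFinitePresentation G.t]
    [Flat G.s] [Flat G.t] [LocallyOfFiniteType G.stabilizerToU]
    [LocallyQuasiFinite G.stabilizerToU] (u : G.U)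
    (hu : LocallyOfFiniteType (G.U.fromSpecResidueField u)) (hsu : MoreMor.IsCMAt G.s (G.e u)) :
    ∃ (U' : Scheme.{u}) (g : U' ⟶ G.U) (u' : U'), LocallyOfFinitePresentation g ∧ g u' = u ∧
      Flat (hh G g) ∧ LocallyQuasiFinite (hh G g) := by
  obtain ⟨U', hU', g, u', p, d, h1, h2, h3, h4, h5, h6, h7, h8, h9⟩ :=
    grpd_exists_max_slice_of_isCMAt G u hsu hu
  haveI := h2
  have hd0 : d = 0 := by
    have h0 : topologicalKrullDim ↥(G.stabilizerToU.fiber u) ≤ 0 :=
      topologicalKrullDim_zero_of_discreteTopology _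
    rw [h9] at h0
    have : d ≤ 0 := by exact_mod_cast h0
    omega
  subst hd0
  have hflat : Flat (hh G g) := Flat.of_stalkMap _ fun x => (h6 x).1
  have hqf : LocallyQuasiFinite (hh G g) := by
    rw [← Scheme.Hom.quasiFiniteLocus_eq_top_iff]
    ext q
    simp only [Scheme.Hom.mem_quasiFiniteLocus, TopologicalSpace.Opens.coe_top, Set.mem_univ,
      iff_true, SetLike.mem_coe]
    rw [quasiFiniteAt_iff_fibreDimAt_le_zero]
    exact_mod_cast h7 q
  exact ⟨U', g, u', h2, h3, hflat, hqf⟩

section Sigma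

variable {ι : Type u} (U' : ι → Scheme.{u}) (g : ∀ i, U' i ⟶ G.U)

/-- The comparison `(U' ×_U R) ×_{U'} U'_i ≅ U'_i ×_U R`. -/
lemma isPullback_sigma_component (i : ι) :
    IsPullback (pullback.snd (pullback.fst (Sigma.desc g) G.t) (Sigma.ι U' i))
      (pullback.fst (pullback.fst (Sigma.desc g) G.t) (Sigma.ι U' i) ≫
        pullback.snd (Sigma.desc g) G.t) (g i) G.t := by
  have t₁ := (IsPullback.of_hasPullback (pullback.fst (Sigma.desc g) G.t) (Sigma.ι U' i)).flip
  have t₂ := IsPullback.of_hasPullback (Sigma.desc g) G.t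
  have := t₁.paste_vert t₂
  rwa [Sigma.ι_desc] at this

theorem hh_sigma_of_forall (P : MorphismProperty Scheme.{u}) [IsZariskiLocalAtSource P]
    [P.IsStableUnderComposition]
    (hiso : ∀ {X Y : Scheme.{u}} (f : X ⟶ Y) [IsIso f], P f) (hP : ∀ i, P (hh G (g i))) :
    P (hh G (Sigma.desc g)) := by
  let 𝒰 : (pullback (Sigma.desc g) G.t).OpenCover :=
    (sigmaOpenCover U').pullback₁ (pullback.fst (Sigma.desc g) G.t)
  rw [IsZariskiLocalAtSource.iff_of_openCover (P := P) 𝒰]
  intro i
  have sq := isPullback_sigma_component G U' g i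
  have h1 : 𝒰.f i ≫ hh G (Sigma.desc g) = sq.isoPullback.hom ≫ hh G (g i) := by
    change pullback.fst (pullback.fst (Sigma.desc g) G.t) (Sigma.ι U' i) ≫
      pullback.snd (Sigma.desc g) G.t ≫ G.s = sq.isoPullback.hom ≫ pullback.snd (g i) G.t ≫ G.s
    rw [← Category.assoc, ← Category.assoc, sq.isoPullback_hom_snd]
  rw [h1]
  exact P.comp_mem _ _ (@hiso _ _ sq.isoPullback.hom (Iso.isIso_hom _)) (hP i)

set_option backward.isDefEq.respectTransparency.types false in
instance lfp_sigma_desc [∀ i, LocallyOfFinitePresentation (g i)] :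
    LocallyOfFinitePresentation (Sigma.desc g) := by
  rw [IsZariskiLocalAtSource.iff_of_openCover (P := @LocallyOfFinitePresentation)
    (sigmaOpenCover U')]
  intro i
  change LocallyOfFinitePresentation (Sigma.ι U' i ≫ Sigma.desc g)
  rw [Sigma.ι_desc]
  infer_instance

end Sigma

/-- Finite type points of an open subscheme are finite type points. -/
lemma locallyOfFiniteType_fromSpecResidueField_of_isOpenImmersion {X Y : Scheme.{u}} (j : X ⟶ Y)
    [IsOpenImmersion j] (x : X) (hx : LocallyOfFiniteType (X.fromSpecResidueField x)) :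
    LocallyOfFiniteType (Y.fromSpecResidueField (j x)) := by
  have h1 := Scheme.Hom.SpecMap_residueFieldMap_fromSpecResidueField (f := j) x
  have h2 : LocallyOfFiniteType
      (Spec.map (j.residueFieldMap x) ≫ Y.fromSpecResidueField (j x)) := by
    rw [h1]; infer_instance
  have h3 : Y.fromSpecResidueField (j x) = inv (Spec.map (j.residueFieldMap x)) ≫
      (Spec.map (j.residueFieldMap x) ≫ Y.fromSpecResidueField (j x)) := by
    rw [IsIso.inv_hom_id_assoc]
  rw [h3]
  infer_instance

theorem surjective_hh_of_cover [LocallyOfFinitePresentation G.s] [Flat G.s] [Flat G.t]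
    [LocallyOfFinitePresentation G.t]
    {U' : Scheme.{u}} (g : U' ⟶ G.U) [LocallyOfFinitePresentation g] [Flat (hh G g)]
    (hcov : ∀ u : G.U, LocallyOfFiniteType (G.U.fromSpecResidueField u) →
      MoreMor.IsCMAt G.s (G.e u) → ∃ u' : U', g u' = u) :
    Function.Surjective (hh G g) := by
  -- the image is open
  let W : G.U.Opens := ⟨Set.range (hh G g), (hh G g).isOpenMap.isOpen_range⟩
  have hmemW : ∀ y : G.U, y ∈ W ↔ ∃ (a : U') (r : G.R), g a = G.t r ∧ G.s r = y := by
    intro y
    constructor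
    · rintro ⟨q, rfl⟩
      refine ⟨pullback.fst g G.t q, pullback.snd g G.t q, ?_, rfl⟩
      rw [← Scheme.Hom.comp_apply, ← Scheme.Hom.comp_apply, pullback.condition]
    · rintro ⟨a, r, har, rfl⟩
      obtain ⟨q, -, hq2⟩ := Scheme.Pullback.exists_preimage_pullback (f := g) (g := G.t) a r har
      refine ⟨q, ?_⟩
      change (pullback.snd g G.t ≫ G.s) q = _
      rw [Scheme.Hom.comp_apply, hq2]
  -- the Cohen–Macaulay locus at the identity
  let U₁ : G.U.Opens := ⟨G.e ⁻¹' {r | MoreMor.IsCMAt G.s r},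
    (isOpen_setOf_isCMAt_fp G.s).preimage G.e.continuous⟩
  have hU₁W : ∀ y ∈ U₁, y ∈ W := by
    have htop : U₁.ι ⁻¹ᵁ W = ⊤ := by
      apply opens_eq_top_of_finiteType_points_mem
      intro x hx
      have hx' := locallyOfFiniteType_fromSpecResidueField_of_isOpenImmersion U₁.ι x hx
      obtain ⟨u', hu'⟩ := hcov (U₁.ι x) hx' x.2
      change U₁.ι x ∈ W
      rw [hmemW]
      refine ⟨u', G.e (U₁.ι x), ?_, ?_⟩
      · rw [hu', ← Scheme.Hom.comp_apply, G.e_t]; rfl
      · rw [← Scheme.Hom.comp_apply, G.e_s]; rfl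
    intro y hy
    have : (⟨y, hy⟩ : (U₁ : Scheme.{u})) ∈ U₁.ι ⁻¹ᵁ W := by rw [htop]; trivial
    exact this
  -- every point is equivalent to a point of `U₁`
  intro y
  obtain ⟨ξ, hξs, hξCM⟩ := exists_isCMAt_fiber G.s (G.e y)
  have hsey : G.s (G.e y) = y := by rw [← Scheme.Hom.comp_apply, G.e_s]; rfl
  rw [hsey] at hξs
  have htξ : G.t ξ ∈ U₁ := (isCMAt_s_iff G ξ).mp hξCM
  obtain ⟨a, r', har', hsr'⟩ := (hmemW _).mp (hU₁W _ htξ)
  obtain ⟨z, hz1, hz2⟩ := Scheme.Pullback.exists_preimage_pullback (f := G.s) (g := G.t) r' ξ hsr'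
  have hy : y ∈ W := by
    rw [hmemW]
    refine ⟨a, G.c z, ?_, ?_⟩
    · rw [har', ← hz1, ← Scheme.Hom.comp_apply, ← Scheme.Hom.comp_apply,
        Groth.Agent.Lib.Helper48.GrpdPullback.c_t]
    · rw [← hξs, ← hz2, ← Scheme.Hom.comp_apply, ← Scheme.Hom.comp_apply,
        Groth.Agent.Lib.Helper48.GrpdPullback.c_s]
  exact hy

end Groth.Agent.Lib.Helper73
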